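import Groth.Agent.Lib.ModStDesc.Hom
import Groth.Agent.Lib.ModStDesc.Family
import Groth.Agent.S17417
import Groth.Agent.Lib.Fibred.Descent

/-!
Morphisms of flat finitely presented modules glue along fppf sieves.
-/

set_option autoImplicit false
set_option backward.isDefEq.respectTransparency false
set_option backward.isDefEq.respectTransparency.types false
set_option linter.style.haveILetI false

universe u

open CategoryTheory CategoryTheory.Limits AlgebraicGeometry Opposite
open Groth.Agent.Lib.Fibred.Descent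

namespace Groth.Agent.Lib.ModStDesc

variable {X S : Scheme.{u}} {f : X ⟶ S}

theorem base_eq {x y : (ModSt.Coh f).obj} {V W : Over S} {g : V ⟶ W} (φ : x ⟶ y)
    (hφ : (ModSt.Coh f).p.IsHomLift g φ) :
    φ.hom.base = eqToHom (IsHomLift.domain_eq (ModSt.Coh f).p g φ) ≫ g ≫
      eqToHom (IsHomLift.codomain_eq (ModSt.Coh f).p g φ).symm :=
  IsHomLift.fac' (ModSt.Coh f).p g φ

theorem isQuasicoherent_obj (x : (ModSt.Coh f).obj) : x.obj.E.IsQuasicoherent := by
  haveI : SheafOfModules.IsFinitePresentation (R := x.obj.XT.ringCatSheaf) x.obj.E := x.property.2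
  infer_instance

/-- The pullback of an object. -/
noncomputable def pbObj (x : ModSt.Obj f) {V : Over S} (g : V ⟶ x.base) : ModSt.Obj f where
  base := V
  XT := pullback x.q g.left
  p := pullback.fst x.q g.left ≫ x.p
  q := pullback.snd x.q g.left
  isPullback := by
    rw [← Over.w g]
    exact (IsPullback.of_hasPullback x.q g.left).paste_horiz x.isPullback
  E := (Scheme.Modules.pullback (pullback.fst x.q g.left)).obj x.E

/-- The pullback of an object in `Coh f`. -/
noncomputable def pb (x : (ModSt.Coh f).obj) {V : Over S} (g : V ⟶ x.obj.base) : (ModSt.Coh f).obj :=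
  ⟨pbObj x.obj g, H52.FDesc.BaseChangeFlat.isFlatOver_baseChange x.obj.q g.left _ x.property.1,
    haveI := isQuasicoherent_obj x
    H46.FibreProf.PullFP.isFP_pullback _ _ x.property.2⟩

/-- The projection from the pullback. -/
noncomputable def pbHom (x : (ModSt.Coh f).obj) {V : Over S} (g : V ⟶ x.obj.base) : pb x g ⟶ x :=
  ObjectProperty.homMk
    { base := g
      top := pullback.fst x.obj.q g.left
      w_p := rfl
      w_q := pullback.condition
      c := (Scheme.Modules.pullbackPushforwardAdjunction (pullback.fst x.obj.q g.left)).unit.app x.obj.E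
      cart := fun M' => by
        have hb := ((Scheme.Modules.pullbackPushforwardAdjunction (pullback.fst x.obj.q g.left)).homEquiv
          x.obj.E M').bijective
        refine (congrArg Function.Bijective ?_).mp hb
        funext v
        exact Adjunction.homEquiv_unit _ _ _ _ }

theorem pbHom_base (x : (ModSt.Coh f).obj) {V : Over S} (g : V ⟶ x.obj.base) : (pbHom x g).hom.base = g := rfl

/-- The top maps over a covering family of the base cover. -/
theorem top_mem {A : ModSt.Obj f} {ι : Type u} {Z : ι → ModSt.Obj f} (ψ : ∀ k, Z k ⟶ A)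
    (hf : ∀ k, Flat (ψ k).base.left) (hp : ∀ k, LocallyOfFinitePresentation (ψ k).base.left)
    (hs : ∀ t, ∃ k, t ∈ Set.range (ψ k).base.left) :
    Sieve.ofArrows (fun k => (Z k).XT) (fun k => (ψ k).top) ∈ Scheme.fpqcTopology A.XT := by
  refine Precoverage.generate_mem_toGrothendieck (ofArrows_mem_fpqc _ (fun k => ?_) (fun k => ?_) fun x => ?_)
  · exact MorphismProperty.of_isPullback (P := @Flat) (ψ k).isPullback_top.flip (hf k)
  · exact MorphismProperty.of_isPullback (P := @LocallyOfFinitePresentation) (ψ k).isPullback_top.flip (hp k)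
  · obtain ⟨k, t, ht⟩ := hs (A.q x)
    obtain ⟨z, hz, -⟩ := Scheme.Pullback.exists_preimage_pullback (f := A.q) (g := (ψ k).base.left) x t ht.symm
    refine ⟨k, (ψ k).isPullback_top.flip.flip.isoPullback.inv z, ?_⟩
    rw [← Scheme.Hom.comp_apply, IsPullback.isoPullback_inv_fst]
    exact hz

variable {U : Over S} {R : Sieve U}

theorem sep (hR : R ∈ QuotSh.J Scheme.fppfPrecoverage S U) : Sep R (ModSt.Coh f) := by
  intro ξ η a b ha hb hab
  obtain rfl : ξ.obj.base = U := IsHomLift.domain_eq (ModSt.Coh f).p (𝟙 U) a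
  obtain ⟨F⟩ := exists_fam hR
  haveI := isQuasicoherent_obj ξ
  refine InducedCategory.hom_ext (hom_eq_of_local
    (by rw [base_eq a ha, base_eq b hb]) (ι := ξ.obj.base.left)
    (Z := fun i => (pb ξ (Over.homMk (F.g i) rfl : Over.mk (F.g i ≫ ξ.obj.base.hom) ⟶ ξ.obj.base)).obj)
    (fun i => (pbHom ξ _).hom) (top_mem _ F.flat F.lfp F.surj) fun i => ?_)
  exact congrArg InducedCategory.Hom.hom (hab _ (F.mem i) (pbHom ξ _)
    (Functor.IsHomLift.map (p := (ModSt.Coh f).p) (pbHom ξ _)))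

theorem glueHom (hR : R ∈ QuotSh.J Scheme.fppfPrecoverage S U) : GlueHom R (ModSt.Coh f) := by
  intro ξ η hξ hη c hc
  obtain rfl : ξ.obj.base = U := hξ
  have hη' : η.obj.base = ξ.obj.base := hη
  obtain ⟨F⟩ := exists_fam hR
  let cc : ∀ {z : (ModSt.Coh f).obj} (ψ : z ⟶ ξ), R ψ.hom.base → (z ⟶ η) := fun {z} ψ h =>
    c ψ.hom.base h ψ (Functor.IsHomLift.map (p := (ModSt.Coh f).p) ψ)
  have ccbase : ∀ {z : (ModSt.Coh f).obj} (ψ : z ⟶ ξ) (h : R ψ.hom.base),
      (cc ψ h).hom.base = ψ.hom.base ≫ eqToHom hη'.symm := fun {z} ψ h => by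
    rw [base_eq (cc ψ h) (hc.lifts _ h ψ (Functor.IsHomLift.map (p := (ModSt.Coh f).p) ψ))]
    exact Category.id_comp _
  have cccomp : ∀ {z' z : (ModSt.Coh f).obj} (ρ : z' ⟶ z) (ψ : z ⟶ ξ) (h : R ψ.hom.base),
      cc (ρ ≫ ψ) (R.downward_closed h ρ.hom.base) = ρ ≫ cc ψ h := fun {z' z} ρ ψ h =>
    (Fam.Compatible.congr (c := c) rfl _ _ rfl _ _).trans
      (hc.comp ψ.hom.base h ψ (Functor.IsHomLift.map (p := (ModSt.Coh f).p) ψ) ρ.hom.base ρ
        (Functor.IsHomLift.map (p := (ModSt.Coh f).p) ρ) (Functor.IsHomLift.map (p := (ModSt.Coh f).p) (ρ ≫ ψ)))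
  let g : ∀ i, Over.mk (F.g i ≫ ξ.obj.base.hom) ⟶ ξ.obj.base := fun i => Over.homMk (F.g i) rfl
  haveI := isQuasicoherent_obj ξ
  haveI := isQuasicoherent_obj η
  obtain ⟨χ, hχb, hχ⟩ := exists_hom_of_local (eqToHom hη'.symm) (A := ξ.obj) (B := η.obj) (ι := ξ.obj.base.left)
    (Z := fun i => (pb ξ (g i)).obj) (fun i => (pbHom ξ (g i)).hom) (fun i => (cc (pbHom ξ (g i)) (F.mem i)).hom)
    (fun i => ccbase _ _) (top_mem _ F.flat F.lfp F.surj) (fun {T} k l a b hab => by
      let ta : T ⟶ F.V k := a ≫ pullback.snd _ _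
      let tb : T ⟶ F.V l := b ≫ pullback.snd _ _
      let W : Over S := Over.mk (ta ≫ F.g k ≫ ξ.obj.base.hom)
      have htab : ta ≫ F.g k = tb ≫ F.g l := by
        have h1 := congrArg (· ≫ ξ.obj.q) hab
        simp only [Category.assoc] at h1
        have hk : (pbHom ξ (g k)).hom.top ≫ ξ.obj.q = pullback.snd _ _ ≫ F.g k := pullback.condition
        have hl : (pbHom ξ (g l)).hom.top ≫ ξ.obj.q = pullback.snd _ _ ≫ F.g l := pullback.condition
        rw [hk, hl] at h1
        simp only [ta, tb, Category.assoc]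
        exact h1
      let g0 : W ⟶ (pb ξ (g k)).obj.base := Over.homMk ta rfl
      let g0' : W ⟶ (pb ξ (g l)).obj.base := Over.homMk tb (by
        show tb ≫ F.g l ≫ ξ.obj.base.hom = ta ≫ F.g k ≫ ξ.obj.base.hom
        rw [reassoc_of% htab])
      let h : W ⟶ ξ.obj.base := g0 ≫ g k
      have hh : g0' ≫ g l = h := Over.OverMorphism.ext htab.symm
      let z₀ := pb ξ h
      obtain ⟨ρ, ⟨hρb, hρ⟩, -⟩ := S17417.fill (pbHom ξ (g k)).hom (pbHom ξ h).hom g0 rfl
      obtain ⟨ρ', ⟨hρb', hρ'⟩, -⟩ := S17417.fill (pbHom ξ (g l)).hom (pbHom ξ h).hom g0' hh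
      let s : T ⟶ z₀.obj.XT := pullback.lift (a ≫ (pbHom ξ (g k)).hom.top) (𝟙 T) (by
        show (a ≫ pullback.fst _ _) ≫ ξ.obj.q = 𝟙 T ≫ ta ≫ F.g k
        simp only [ta, Category.assoc, pullback.condition, Category.id_comp]
        rfl)
      have hs1 : s ≫ (pbHom ξ h).hom.top = a ≫ (pbHom ξ (g k)).hom.top := pullback.lift_fst _ _ _
      have hs2 : s ≫ z₀.obj.q = 𝟙 T := pullback.lift_snd _ _ _
      refine ⟨z₀.obj, ρ, ρ', s, hρ.trans hρ'.symm, ?_, ?_, ?_⟩
      · have e1 := congrArg InducedCategory.Hom.hom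
          (cccomp (ObjectProperty.homMk ρ : z₀ ⟶ pb ξ (g k)) (pbHom ξ (g k)) (F.mem k))
        have e2 := congrArg InducedCategory.Hom.hom
          (cccomp (ObjectProperty.homMk ρ' : z₀ ⟶ pb ξ (g l)) (pbHom ξ (g l)) (F.mem l))
        refine e1.symm.trans (Eq.trans ?_ e2)
        refine congrArg InducedCategory.Hom.hom (Fam.Compatible.congr (c := c) ?_ _ _ ?_ _ _)
        · exact congrArg ModSt.Obj.Hom.base (hρ.trans hρ'.symm)
        · exact InducedCategory.hom_ext (hρ.trans hρ'.symm)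
      · refine (pb ξ (g k)).obj.isPullback.hom_ext ?_ ?_
        · have e := congrArg ModSt.Obj.Hom.top hρ
          show (s ≫ ρ.top) ≫ pullback.fst _ _ ≫ ξ.obj.p = a ≫ pullback.fst _ _ ≫ ξ.obj.p
          have e' : ρ.top ≫ pullback.fst ξ.obj.q (g k).left = (pbHom ξ h).hom.top := e
          rw [Category.assoc, reassoc_of% e', reassoc_of% hs1]
          rfl
        · rw [Category.assoc, ρ.w_q, hρb, reassoc_of% hs2]
          rfl
      · refine (pb ξ (g l)).obj.isPullback.hom_ext ?_ ?_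
        · have e := congrArg ModSt.Obj.Hom.top hρ'
          show (s ≫ ρ'.top) ≫ pullback.fst _ _ ≫ ξ.obj.p = b ≫ pullback.fst _ _ ≫ ξ.obj.p
          have e' : ρ'.top ≫ pullback.fst ξ.obj.q (g l).left = (pbHom ξ h).hom.top := e
          rw [Category.assoc, reassoc_of% e', reassoc_of% hs1]
          exact (Category.assoc _ _ _).symm.trans ((congrArg (· ≫ ξ.obj.p) hab).trans (Category.assoc _ _ _))
        · rw [Category.assoc, ρ'.w_q, hρb', reassoc_of% hs2]
          rfl)
  let a : ξ ⟶ η := ObjectProperty.homMk χ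
  refine ⟨a, IsHomLift.of_fac' _ _ _ rfl hη' (show χ.base = eqToHom rfl ≫ 𝟙 _ ≫ eqToHom hη'.symm by
    rw [hχb, eqToHom_refl, Category.id_comp, Category.id_comp]), ?_⟩
  intro V f' hf z ψ hψ
  obtain rfl : z.obj.base = V := IsHomLift.domain_eq (ModSt.Coh f).p f' ψ
  obtain rfl : f' = ψ.hom.base := by
    rw [base_eq ψ hψ]
    simp
  show ψ ≫ a = cc ψ hf
  let Fz : ξ.obj.base.left → Scheme.{u} := fun i => pullback ψ.hom.base.left (F.g i)
  let gz : ∀ i, Over.mk (pullback.fst ψ.hom.base.left (F.g i) ≫ z.obj.base.hom) ⟶ z.obj.base :=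
    fun i => Over.homMk (pullback.fst ψ.hom.base.left (F.g i)) rfl
  haveI := isQuasicoherent_obj z
  refine InducedCategory.hom_ext (hom_eq_of_local ?_ (ι := ξ.obj.base.left)
    (Z := fun i => (pb z (gz i)).obj) (fun i => (pbHom z (gz i)).hom) (top_mem _ ?_ ?_ ?_) fun i => ?_)
  · rw [ccbase]
    show ψ.hom.base ≫ χ.base = _
    rw [hχb]
  · exact fun i => haveI := F.flat i; inferInstanceAs (Flat (pullback.fst ψ.hom.base.left (F.g i)))
  · exact fun i => haveI := F.lfp i
      inferInstanceAs (LocallyOfFinitePresentation (pullback.fst ψ.hom.base.left (F.g i)))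
  · intro t
    obtain ⟨i, v, hv⟩ := F.surj (ψ.hom.base.left t)
    obtain ⟨w, hw, -⟩ := Scheme.Pullback.exists_preimage_pullback (f := ψ.hom.base.left) (g := F.g i) t v hv.symm
    exact ⟨i, w, hw⟩
  · let g1 : Over.mk (pullback.fst ψ.hom.base.left (F.g i) ≫ z.obj.base.hom) ⟶ (pb ξ (g i)).obj.base :=
      Over.homMk (pullback.snd ψ.hom.base.left (F.g i)) (by
        show pullback.snd _ _ ≫ F.g i ≫ ξ.obj.base.hom = pullback.fst _ _ ≫ z.obj.base.hom
        rw [← pullback.condition_assoc, Over.w ψ.hom.base])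
    obtain ⟨ρ, ⟨-, hρ⟩, -⟩ := S17417.fill (pbHom ξ (g i)).hom ((pbHom z (gz i)) ≫ ψ).hom g1
      (Over.OverMorphism.ext pullback.condition.symm)
    have e1 := cccomp (pbHom z (gz i)) ψ hf
    have e2 := cccomp (ObjectProperty.homMk ρ : pb z (gz i) ⟶ pb ξ (g i)) (pbHom ξ (g i)) (F.mem i)
    have e3 : (pbHom z (gz i)).hom ≫ ψ.hom = ρ ≫ (pbHom ξ (g i)).hom := hρ.symm
    show (pbHom z (gz i)).hom ≫ ψ.hom ≫ χ = (pbHom z (gz i) ≫ cc ψ hf).hom
    rw [← e1, reassoc_of% e3, hχ i]
    refine (congrArg InducedCategory.Hom.hom e2).symm.trans ?_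
    exact congrArg InducedCategory.Hom.hom (Fam.Compatible.congr (c := c)
      (congrArg ModSt.Obj.Hom.base hρ) _ _ (InducedCategory.hom_ext hρ) _ _)

end Groth.Agent.Lib.ModStDesc
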