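import Groth.Agent.Lib.QCohDesc.Datum
import Groth.Agent.Lib.DescAlg.FPDescent64
import Groth.Agent.Lib.DescAlg.FPPush
import Groth.Agent.Lib.QCoh.Pullback
import Groth.Agent.H46.FibreProf.PullFP
import Groth.Agent.H52.FDesc.BaseChangeFlat
import Groth.Agent.H52.Ass.FlatTensorProd

/-!
Finite presentation and flatness over the base are local for fpqc families.
-/

set_option autoImplicit false
set_option backward.isDefEq.respectTransparency false
set_option backward.isDefEq.respectTransparency.types false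
set_option linter.style.haveILetI false

universe u

open CategoryTheory CategoryTheory.Limits AlgebraicGeometry Opposite TensorProduct
open ZarCoh.FlatBC.PullbackSections
open Groth.Agent.Lib.DescAlg.PbSec

namespace Groth.Agent.Lib.ModStDesc

variable {ι : Type u} {Y : Scheme.{u}} {Z : ι → Scheme.{u}} (g : ∀ i, Z i ⟶ Y)

theorem isFP_of_family (hg : Presieve.ofArrows Z g ∈ Scheme.fpqcPrecoverage Y) (M : Y.Modules)
    [M.IsQuasicoherent] (h : ∀ i, CohB1.IsFP ((Scheme.Modules.pullback (g i)).obj M)) : CohB1.IsFP M := by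
  refine Groth.Agent.Lib.DescAlg.FPPush.isFP_of_sections M fun x => ?_
  obtain ⟨V, hV, hxV, -⟩ := exists_isAffineOpen_mem_and_subset (X := Y) (x := x) (U := ⊤) trivial
  refine ⟨V, hV, hxV, ?_⟩
  obtain ⟨n, k, c, hc, hfl, hs⟩ := QCohDesc.DD.exists_cover hg hV
  haveI : IsAffine V.toScheme := hV
  haveI : ∀ j, IsAffine (k j).Z := fun j => (k j).aff
  let w : ∀ j, (k j).Z ⟶ Y := fun j => (k j).a ≫ g (k j).i
  have hw : ∀ j, (⊤ : (k j).Z.Opens) ≤ w j ⁻¹ᵁ V := fun j z _ => by
    show w j z ∈ V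
    simp only [w, ← hc j, Scheme.Hom.comp_apply]
    exact (c j z).2
  have hwf : ∀ j, Flat (w j) := fun j => by
    haveI := hfl j
    show Flat ((k j).a ≫ g (k j).i)
    rw [← hc j]
    infer_instance
  let Rg : Fin n → Type u := fun j => Γ((k j).Z, ⊤)
  let alg : ∀ j, Algebra Γ(Y, V) (Rg j) := fun j => ((w j).appLE V ⊤ (hw j)).hom.toAlgebra
  have hflat : ∀ j, Module.Flat Γ(Y, V) (Rg j) := fun j =>
    HasRingHomProperty.appLE @Flat (w j) (hwf j) ⟨V, hV⟩ ⟨⊤, isAffineOpen_top _⟩ (hw j)
  refine Groth.Agent.Lib.DescAlg.FPDescent64.finitePresentation_of_cover Rg (fun p => ?_) Γ(M, V) fun j => ?_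
  · let : ∀ j, Algebra Γ(V.toScheme, ⊤) Γ((k j).Z, ⊤) := fun j => (c j).appTop.hom.toAlgebra
    obtain ⟨j, q, hq⟩ := Groth.Agent.H14.ModDesc.jointlySurj_appTop c (fun j => rfl) hs
      (PrimeSpectrum.comap V.topIso.hom.hom p)
    refine ⟨j, q, ?_⟩
    have e : ((w j).appLE V ⊤ (hw j)).hom = (c j).appTop.hom.comp V.topIso.inv.hom := by
      ext r
      have h2 : (c j).appTop = (c j).appLE ⊤ ⊤ le_top := by
        rw [Scheme.Hom.appTop, Scheme.Hom.app_eq_appLE]
        rfl
      have h0 : (⊤ : V.toScheme.Opens) ≤ V.ι ⁻¹ᵁ V := by rw [Scheme.Opens.ι_preimage_self]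
      have key : ∀ {v : (k j).Z ⟶ Y} (_ : v = w j) (e : (⊤ : (k j).Z.Opens) ≤ v ⁻¹ᵁ V),
          v.appLE V ⊤ e = (w j).appLE V ⊤ (hw j) := by
        rintro v rfl e
        rfl
      have h1 : V.ι.appLE V ⊤ h0 ≫ (c j).appLE ⊤ ⊤ le_top = (w j).appLE V ⊤ (hw j) := by
        rw [Scheme.Hom.appLE_comp_appLE]
        exact key (hc j) _
      show _ = (c j).appTop.hom (V.topIso.inv.hom r)
      rw [h2, show V.topIso.inv.hom r = (Groth.Agent.H14.ModDesc.Datum.toGlobal V) r from rfl,
        Groth.Agent.H14.ModDesc.Datum.toGlobal_eq]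
      exact congr($(h1).hom r).symm
    show PrimeSpectrum.comap ((w j).appLE V ⊤ (hw j)).hom q = p
    rw [e, PrimeSpectrum.comap_comp_apply]
    refine (congrArg (PrimeSpectrum.comap V.topIso.inv.hom) hq).trans ?_
    rw [← PrimeSpectrum.comap_comp_apply, ← CommRingCat.hom_comp, Iso.inv_hom_id]
    exact PrimeSpectrum.ext (Ideal.comap_id _)
  · haveI : ((Scheme.Modules.pullback (g (k j).i)).obj M).IsQuasicoherent := QCoh.Pullback.isQCoh_pullback _ _
    haveI : ((Scheme.Modules.pullback (k j).a).obj ((Scheme.Modules.pullback (g (k j).i)).obj M)).IsQuasicoherent :=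
      QCoh.Pullback.isQCoh_pullback _ _
    haveI : Module.FinitePresentation (Rg j)
        Γ((Scheme.Modules.pullback (k j).a).obj ((Scheme.Modules.pullback (g (k j).i)).obj M), ⊤) :=
      Groth.Agent.Lib.DescAlg.FPPush.finitePresentation_sections (isAffineOpen_top _) _
        (Groth.Agent.H46.FibreProf.PullFP.isFP_pullback _ _ (h _))
    let φ : ((Scheme.Modules.pullback (k j).a).obj ((Scheme.Modules.pullback (g (k j).i)).obj M)) ⟶
        (Scheme.Modules.pullback (w j)).obj M := (tr (k j).a rfl M).hom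
    haveI : Module.FinitePresentation (Rg j) Γ((Scheme.Modules.pullback (w j)).obj M, ⊤) :=
      Module.FinitePresentation.of_equiv
        (LinearEquiv.ofBijective
          ({ toFun := fun z => φ.app ⊤ z
             map_add' := fun a b => map_add _ a b
             map_smul' := fun r a => Scheme.Modules.Hom.app_smul φ r a } :
            Γ((Scheme.Modules.pullback (k j).a).obj ((Scheme.Modules.pullback (g (k j).i)).obj M), ⊤) →ₗ[Rg j]
              Γ((Scheme.Modules.pullback (w j)).obj M, ⊤))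
          (ConcreteCategory.bijective_of_isIso (φ.app ⊤)))
    exact Module.FinitePresentation.of_equiv
      (LinearEquiv.ofBijective (pbTensor (w j) M (hw j))
        (bijective_pbTensor (w j) M hV (isAffineOpen_top _) (hw j))).symm

theorem isFlatOver_of_family {T : Scheme.{u}} (q : Y ⟶ T) (hf : ∀ i, Flat (g i))
    (hs : ∀ y, ∃ i, y ∈ Set.range (g i)) (M : Y.Modules)
    (h : ∀ i, FlatMod.IsFlatOver (g i ≫ q) ((Scheme.Modules.pullback (g i)).obj M)) : FlatMod.IsFlatOver q M := by
  intro y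
  obtain ⟨i, x, rfl⟩ := hs y
  haveI := hf i
  exact (Groth.Agent.H52.FDesc.PullbackFlat.isFlatOverAt_pullback_iff (g i) q M x).1 (h i x)

end Groth.Agent.Lib.ModStDesc
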