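import Groth.Agent.Lib.ModStDesc.Coh
import Groth.Agent.Lib.ModStDesc.Local
import Groth.Agent.Lib.QCohDesc.Effective

/-!
Objects of `Coh f` glue along fppf sieves.
-/

set_option autoImplicit false
set_option backward.isDefEq.respectTransparency false
set_option backward.isDefEq.respectTransparency.types false
set_option linter.style.haveILetI false

universe u

open CategoryTheory CategoryTheory.Limits AlgebraicGeometry Opposite
open ZarCoh.FlatBC.PullbackSections
open Groth.Agent.Lib.DescAlg.PbSec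
open Groth.Agent.Lib.Fibred.Descent

namespace Groth.Agent.Lib.ModStDesc

variable {X S : Scheme.{u}} {f : X ⟶ S}

theorem isPullback_cast (A : ModSt.Obj f) {W : Over S} (e : A.base = W) :
    IsPullback A.p (A.q ≫ (eqToHom e).left) f W.hom := by
  subst e
  simpa using A.isPullback

theorem left_eqToHom_apply {V W : Over S} (e : V = W) (x : W.left) :
    (eqToHom e).left ((eqToHom e.symm).left x) = x := by
  subst e
  rfl

theorem left_eqToHom_apply' {V W : Over S} (e : V = W) (x : V.left) :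
    (eqToHom e.symm).left ((eqToHom e).left x) = x := by
  subst e
  rfl

instance isIso_left_eqToHom {V W : Over S} (e : V = W) : IsIso (eqToHom e).left := by
  subst e
  exact inferInstanceAs (IsIso (𝟙 V.left))

theorem comp_inv_of_factor {C : Type*} [Category C] {P Q M N : C} {θ₁ : P ⟶ M} {θ₂ : Q ⟶ M} {T₁ : P ⟶ N}
    {T₂ : Q ⟶ N} {X : N ⟶ M} [IsIso θ₂] [IsIso T₂] (h₁ : θ₁ = T₁ ≫ X) (h₂ : θ₂ = T₂ ≫ X) :
    θ₁ ≫ inv θ₂ = T₁ ≫ inv T₂ := by
  rw [IsIso.comp_inv_eq, h₁, h₂]
  simp

theorem comp_eq_of_glue {C : Type*} [Category C] {W P Q N : C} {I₁ : W ⟶ P} {I₂ : W ⟶ Q} {T₁ : P ⟶ N} {T₂ : Q ⟶ N}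
    [IsIso T₂] {G : P ⟶ Q} (hG : G = T₁ ≫ inv T₂) (h : I₁ ≫ G = I₂) : I₁ ≫ T₁ = I₂ ≫ T₂ := by
  rw [← h, hG]
  simp

theorem inv_comp_comp {C : Type*} [Category C] {W P P' Q Q' : C} (t : P ≅ W) (s : Q ≅ W) {a : P ⟶ P'} {b : Q ⟶ Q'}
    {G : P' ⟶ Q'} (h : a ≫ G = (t.hom ≫ s.inv) ≫ b) : (t.inv ≫ a) ≫ G = s.inv ≫ b := by
  rw [Category.assoc, h]
  simp

namespace Glue

variable {U : Over S} {R : Sieve U} (H : Stk.sieveCat R ⥤ᵇ ModSt.Coh f)

/-- The objects of the sieve. -/
abbrev Mem (R : Sieve U) := ObjectProperty.FullSubcategory fun a : Over U => R.arrows a.hom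

theorem mem_hom_ext {a b : Mem R} {m m' : a ⟶ b} (h : m.hom.left.left = m'.hom.left.left) : m = m' :=
  InducedCategory.hom_ext (Over.OverMorphism.ext (Over.OverMorphism.ext h))

/-- The module object over a member. -/
abbrev A (a : Mem R) : ModSt.Obj f := (H.obj a).obj

theorem hA (a : Mem R) : (A H a).base = a.obj.left := H.w_obj a

/-- The projection to the member. -/
noncomputable def q' (a : Mem R) : (A H a).XT ⟶ a.obj.left.left := (A H a).q ≫ (eqToHom (hA H a)).left

theorem isPB (a : Mem R) : IsPullback (A H a).p (q' H a) f a.obj.left.hom := isPullback_cast _ _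

theorem map_base {a b : Mem R} (m : a ⟶ b) :
    (H.map m).hom.base = eqToHom (hA H a) ≫ m.hom.left ≫ eqToHom (hA H b).symm := by
  have h : (Stk.sieveCat R).p.IsHomLift m.hom.left m := sieveCat_isHomLift m
  exact base_eq (H.map m) ((H.isHomLift_iff m.hom.left m).2 h)

theorem top_q' {a b : Mem R} (m : a ⟶ b) :
    (H.map m).hom.top ≫ q' H b = q' H a ≫ m.hom.left.left := by
  rw [q', reassoc_of% (H.map m).hom.w_q, map_base]
  simp only [q', Category.assoc, Over.comp_left]
  rw [← Over.comp_left, eqToHom_trans, eqToHom_refl]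
  simp

theorem homw (a : Mem R) : a.obj.hom.left ≫ U.hom = a.obj.left.hom := Over.w a.obj.hom

/-- The projection to the fibre product. -/
noncomputable def π (a : Mem R) : (A H a).XT ⟶ pullback f U.hom :=
  pullback.lift (A H a).p (q' H a ≫ a.obj.hom.left) (by rw [Category.assoc, homw]; exact (isPB H a).w)

theorem π_fst (a : Mem R) : π H a ≫ pullback.fst f U.hom = (A H a).p := pullback.lift_fst _ _ _

theorem π_snd (a : Mem R) : π H a ≫ pullback.snd f U.hom = q' H a ≫ a.obj.hom.left := pullback.lift_snd _ _ _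

theorem top_π {a b : Mem R} (m : a ⟶ b) : (H.map m).hom.top ≫ π H b = π H a := by
  apply pullback.hom_ext
  · rw [Category.assoc, π_fst, π_fst, (H.map m).hom.w_p]
  · rw [Category.assoc, π_snd, π_snd, reassoc_of% (top_q' H m), ← Over.comp_left, Over.w m.hom]

theorem pt_ext {a : Mem R} {T : Scheme.{u}} {v v' : T ⟶ (A H a).XT}
    (h₁ : v ≫ π H a ≫ pullback.fst f U.hom = v' ≫ π H a ≫ pullback.fst f U.hom) (h₂ : v ≫ q' H a = v' ≫ q' H a) :
    v = v' := (isPB H a).hom_ext (by rwa [π_fst] at h₁) h₂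

theorem isPullback_π (a : Mem R) : IsPullback (π H a) (q' H a) (pullback.snd f U.hom) a.obj.hom.left := by
  refine IsPullback.of_right ?_ (π_snd H a) (IsPullback.of_hasPullback f U.hom)
  rw [π_fst, homw]
  exact isPB H a

/-- Points lying over members. -/
def InR (R : Sieve U) {T : Scheme.{u}} (π₀ : T ⟶ pullback f U.hom) : Prop :=
  R (Over.homMk (π₀ ≫ pullback.snd f U.hom) rfl : Over.mk ((π₀ ≫ pullback.snd f U.hom) ≫ U.hom) ⟶ U)

theorem inR_of {a : Mem R} {T : Scheme.{u}} {π₀ : T ⟶ pullback f U.hom} (v : T ⟶ (A H a).XT)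
    (hv : v ≫ π H a = π₀) : InR R π₀ := by
  let n : Over.mk ((π₀ ≫ pullback.snd f U.hom) ≫ U.hom) ⟶ a.obj.left := Over.homMk (v ≫ q' H a) (by
    show (v ≫ q' H a) ≫ a.obj.left.hom = (π₀ ≫ pullback.snd f U.hom) ≫ U.hom
    simp only [← hv, Category.assoc]
    rw [reassoc_of% (π_snd H a), homw])
  have e : n ≫ a.obj.hom = (Over.homMk (π₀ ≫ pullback.snd f U.hom) rfl :
      Over.mk ((π₀ ≫ pullback.snd f U.hom) ≫ U.hom) ⟶ U) := Over.OverMorphism.ext (by
    show (v ≫ q' H a) ≫ a.obj.hom.left = π₀ ≫ pullback.snd f U.hom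
    rw [← hv, Category.assoc, Category.assoc, π_snd])
  show R _
  rw [← e]
  exact R.downward_closed a.property n

/-- The member under a point. -/
noncomputable def ptObj {T : Scheme.{u}} (π₀ : T ⟶ pullback f U.hom) (h : InR R π₀) : Mem R :=
  ⟨Over.mk (Over.homMk (π₀ ≫ pullback.snd f U.hom) rfl :
    Over.mk ((π₀ ≫ pullback.snd f U.hom) ≫ U.hom) ⟶ U), h⟩

/-- The canonical section. -/
noncomputable def sec {T : Scheme.{u}} (π₀ : T ⟶ pullback f U.hom) (h : InR R π₀) :
    T ⟶ (A H (ptObj π₀ h)).XT :=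
  (isPB H (ptObj π₀ h)).lift (π₀ ≫ pullback.fst f U.hom) (𝟙 T) (by
    show (π₀ ≫ pullback.fst f U.hom) ≫ f = 𝟙 T ≫ (π₀ ≫ pullback.snd f U.hom) ≫ U.hom
    simp [pullback.condition])

theorem sec_q' {T : Scheme.{u}} (π₀ : T ⟶ pullback f U.hom) (h : InR R π₀) :
    sec H π₀ h ≫ q' H (ptObj π₀ h) = 𝟙 T := (isPB H _).lift_snd _ _ _

theorem sec_p {T : Scheme.{u}} (π₀ : T ⟶ pullback f U.hom) (h : InR R π₀) :
    sec H π₀ h ≫ (A H (ptObj π₀ h)).p = π₀ ≫ pullback.fst f U.hom := (isPB H _).lift_fst _ _ _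

variable {T : Scheme.{u}} {π₀ : T ⟶ pullback f U.hom}

/-- The morphism of members given by a point. -/
noncomputable def toA (h : InR R π₀) {a : Mem R} (v : T ⟶ (A H a).XT) (hv : v ≫ π H a = π₀) : ptObj π₀ h ⟶ a :=
  ObjectProperty.homMk (Over.homMk (Over.homMk (v ≫ q' H a) (by
      show (v ≫ q' H a) ≫ a.obj.left.hom = (π₀ ≫ pullback.snd f U.hom) ≫ U.hom
      simp only [← hv, Category.assoc]
      rw [reassoc_of% (π_snd H a), homw]) : (ptObj π₀ h).obj.left ⟶ a.obj.left) (Over.OverMorphism.ext (by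
    show (v ≫ q' H a) ≫ a.obj.hom.left = π₀ ≫ pullback.snd f U.hom
    rw [← hv, Category.assoc, Category.assoc, π_snd])))

theorem sec_top (h : InR R π₀) {a : Mem R} (v : T ⟶ (A H a).XT) (hv : v ≫ π H a = π₀) :
    sec H π₀ h ≫ (H.map (toA H h v hv)).hom.top = v := by
  refine pt_ext H ?_ ?_
  · rw [π_fst, Category.assoc, (H.map (toA H h v hv)).hom.w_p, sec_p, ← hv, Category.assoc, π_fst]
  · rw [Category.assoc, top_q', reassoc_of% (sec_q' H π₀ h)]
    rfl

/-- The comparison with the value at a point. -/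
noncomputable def θ (h : InR R π₀) {a : Mem R} (v : T ⟶ (A H a).XT) (hv : v ≫ π H a = π₀) :
    (Scheme.Modules.pullback v).obj (A H a).E ⟶
      (Scheme.Modules.pullback (sec H π₀ h)).obj (A H (ptObj π₀ h)).E :=
  thM (H.map (toA H h v hv)).hom (sec H π₀ h) v (sec_top H h v hv)

instance isIso_θ (h : InR R π₀) {a : Mem R} (v : T ⟶ (A H a).XT) (hv : v ≫ π H a = π₀) : IsIso (θ H h v hv) := by
  unfold θ
  infer_instance

variable (F : Fam R)

/-- The chosen members. -/
def mem (k : U.left) : Mem R :=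
  ⟨Over.mk (Over.homMk (F.g k) rfl : Over.mk (F.g k ≫ U.hom) ⟶ U), F.mem k⟩

theorem flat_π (k : U.left) : Flat (π H (mem F k)) :=
  MorphismProperty.of_isPullback (P := @Flat) (isPullback_π H (mem F k)).flip (F.flat k)

theorem lfp_π (k : U.left) : LocallyOfFinitePresentation (π H (mem F k)) :=
  MorphismProperty.of_isPullback (P := @LocallyOfFinitePresentation) (isPullback_π H (mem F k)).flip (F.lfp k)

theorem surj_π (x : ↥(pullback f U.hom)) : ∃ k, x ∈ Set.range (π H (mem F k)) := by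
  obtain ⟨k, t, ht⟩ := F.surj (pullback.snd f U.hom x)
  obtain ⟨z, hz, -⟩ := Scheme.Pullback.exists_preimage_pullback (f := pullback.snd f U.hom) (g := F.g k) x t ht.symm
  refine ⟨k, (isPullback_π H (mem F k)).isoPullback.inv z, ?_⟩
  rw [← Scheme.Hom.comp_apply, IsPullback.isoPullback_inv_fst]
  exact hz

theorem fam_mem :
    Presieve.ofArrows (fun k => (A H (mem F k)).XT) (fun k => π H (mem F k)) ∈
      Scheme.fpqcPrecoverage (pullback f U.hom) :=
  ofArrows_mem_fpqc _ (flat_π H F) (lfp_π H F) (surj_π H F)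

/-- The gluing map. -/
noncomputable def glueMap {k l : U.left} (a : T ⟶ (A H (mem F k)).XT) (b : T ⟶ (A H (mem F l)).XT)
    (h : a ≫ π H (mem F k) = b ≫ π H (mem F l)) :
    (Scheme.Modules.pullback a).obj (A H (mem F k)).E ⟶ (Scheme.Modules.pullback b).obj (A H (mem F l)).E :=
  θ H (inR_of H a rfl) a rfl ≫ inv (θ H (inR_of H a rfl) b h.symm)

theorem glueMap_eq {k l : U.left} (a : T ⟶ (A H (mem F k)).XT) (b : T ⟶ (A H (mem F l)).XT)
    (h : a ≫ π H (mem F k) = b ≫ π H (mem F l)) (hR : InR R π₀) (ha : a ≫ π H (mem F k) = π₀)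
    (hb : b ≫ π H (mem F l) = π₀) : glueMap H F a b h = θ H hR a ha ≫ inv (θ H hR b hb) := by
  subst ha
  rfl

theorem θ_conj {T' : Scheme.{u}} (g : T' ⟶ T) {π₀' : T' ⟶ pullback f U.hom} (hπ : g ≫ π₀ = π₀')
    (h : InR R π₀) (h' : InR R π₀') :
    ∃ K : (Scheme.Modules.pullback (g ≫ sec H π₀ h)).obj (A H (ptObj π₀ h)).E ⟶
        (Scheme.Modules.pullback (sec H π₀' h')).obj (A H (ptObj π₀' h')).E,
      ∀ {a : Mem R} (v : T ⟶ (A H a).XT) (hv : v ≫ π H a = π₀) (v' : T' ⟶ (A H a).XT) (hv' : g ≫ v = v'),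
        θ H h' v' (by rw [← hv', Category.assoc, hv, hπ]) =
          (tr g hv' (A H a).E).inv ≫ (Scheme.Modules.pullback g).map (θ H h v hv) ≫
            (tr g rfl (A H (ptObj π₀ h)).E).hom ≫ K := by
  let n : ptObj π₀' h' ⟶ ptObj π₀ h :=
    ObjectProperty.homMk (Over.homMk (Over.homMk g (by
        show g ≫ (π₀ ≫ pullback.snd f U.hom) ≫ U.hom = (π₀' ≫ pullback.snd f U.hom) ≫ U.hom
        rw [← hπ]; simp) : (ptObj π₀' h').obj.left ⟶ (ptObj π₀ h).obj.left) (Over.OverMorphism.ext (by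
      show g ≫ π₀ ≫ pullback.snd f U.hom = π₀' ≫ pullback.snd f U.hom
      rw [← hπ, Category.assoc])))
  have hs : sec H π₀' h' ≫ (H.map n).hom.top = g ≫ sec H π₀ h := by
    refine pt_ext H ?_ ?_
    · rw [π_fst, Category.assoc, (H.map n).hom.w_p, sec_p, Category.assoc, sec_p, ← hπ, Category.assoc]
    · rw [Category.assoc, top_q', reassoc_of% (sec_q' H π₀' h'), Category.assoc, sec_q', Category.comp_id]
      rfl
  refine ⟨thM (H.map n).hom (sec H π₀' h') (g ≫ sec H π₀ h) hs, fun {a} v hv v' hv' => ?_⟩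
  subst hv'
  have e : H.map (toA H h' (g ≫ v) (by rw [Category.assoc, hv, hπ])) = H.map n ≫ H.map (toA H h v hv) := by
    rw [← H.toFunctor.map_comp]
    exact congrArg H.map (mem_hom_ext (Category.assoc _ _ _))
  have hd : (g ≫ sec H π₀ h) ≫ (H.map (toA H h v hv)).hom.top = g ≫ v := by
    rw [Category.assoc, sec_top]
  rw [θ, thM_congr (congrArg InducedCategory.Hom.hom e)]
  refine (thM_comp (H.map n).hom (H.map (toA H h v hv)).hom (sec H π₀' h') (g ≫ sec H π₀ h) (g ≫ v) hs hd _).trans ?_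
  rw [thM_conj (H.map (toA H h v hv)).hom (sec H π₀ h) v (sec_top H h v hv) g (g ≫ sec H π₀ h) (g ≫ v) rfl rfl hd]
  simp only [θ, Category.assoc]

/-- The descent datum of modules. -/
noncomputable def dd : QCohDesc.DD (fun k : U.left => π H (mem F k)) where
  obj k := (A H (mem F k)).E
  qc k := isQuasicoherent_obj (H.obj (mem F k))
  hom := fun {T i j} a b h => glueMap H F a b h
  hom_self := fun {T i} a => IsIso.hom_inv_id _
  hom_comp := fun {T i j k} a b c h h' => by
    rw [glueMap_eq H F b c h' (π₀ := a ≫ π H (mem F i)) (inR_of H a rfl) h.symm (h.trans h').symm,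
      glueMap, glueMap, Category.assoc, IsIso.inv_hom_id_assoc]
  hom_R := fun {T' T} g {i j} a b a' b' ha hb h {W W'} e x => by
    subst ha hb
    have h' : (g ≫ a) ≫ π H (mem F i) = (g ≫ b) ≫ π H (mem F j) := by rw [Category.assoc, Category.assoc, h]
    have h1 : (tr g (rfl : g ≫ a = g ≫ a) (A H (mem F i)).E).inv ≫
        (Scheme.Modules.pullback g).map (glueMap H F a b h) ≫ (tr g (rfl : g ≫ b = g ≫ b) (A H (mem F j)).E).hom =
        glueMap H F (g ≫ a) (g ≫ b) h' := by
      obtain ⟨K, hK⟩ := θ_conj H g (π₀' := (g ≫ a) ≫ π H (mem F i)) (Category.assoc _ _ _).symm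
        (inR_of H a rfl) (inR_of H (g ≫ a) rfl)
      rw [glueMap_eq H F (g ≫ a) (g ≫ b) h' (inR_of H (g ≫ a) rfl) rfl h'.symm, IsIso.eq_comp_inv,
        hK a rfl (g ≫ a) rfl, hK b h.symm (g ≫ b) rfl]
      simp only [Category.assoc, Iso.hom_inv_id_assoc, ← Functor.map_comp_assoc, glueMap, IsIso.inv_hom_id,
        Category.comp_id]
    show Groth.Agent.Lib.DescAlg.PbSec.R g rfl _ e ((glueMap H F a b h).app W x) =
      (glueMap H F (g ≫ a) (g ≫ b) h').app W' (Groth.Agent.Lib.DescAlg.PbSec.R g rfl _ e x)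
    rw [R_eq, R_eq, ← pbRes_natural, ← h1]
    have e1 : (tr g (rfl : g ≫ a = g ≫ a) (A H (mem F i)).E).hom.app W' ≫
        (tr g (rfl : g ≫ a = g ≫ a) (A H (mem F i)).E).inv.app W' = 𝟙 _ := by
      rw [← Scheme.Modules.Hom.comp_app, Iso.hom_inv_id]
      rfl
    exact congrArg (fun t => (tr g (rfl : g ≫ b = g ≫ b) (A H (mem F j)).E).hom.app W'
      (((Scheme.Modules.pullback g).map (glueMap H F a b h)).app W' t))
      (ConcreteCategory.congr_hom e1 _).symm

/-- The glued object. -/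
noncomputable def G : ModSt.Obj f where
  base := U
  XT := pullback f U.hom
  p := pullback.fst f U.hom
  q := pullback.snd f U.hom
  isPullback := IsPullback.of_hasPullback f U.hom
  E := (dd H F).glue (fam_mem H F)

/-- The structure morphism at a chosen member. -/
noncomputable def ιm (k : U.left) : A H (mem F k) ⟶ G H F where
  base := eqToHom (hA H (mem F k)) ≫ (mem F k).obj.hom
  top := π H (mem F k)
  w_p := π_fst H _
  w_q := by
    show π H (mem F k) ≫ pullback.snd f U.hom = _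
    rw [π_snd, q', Over.comp_left, Category.assoc]
  c := (dd H F).ψ (fam_mem H F) k
  cart := by
    haveI := (dd H F).isIso_cmp (fam_mem H F) k
    have := isCart_of_isIso ((dd H F).cmp (fam_mem H F) k)
    rwa [QCohDesc.DD.cmp, Equiv.apply_symm_apply] at this

theorem isCoh_G : ModSt.IsCohObj (G H F) := by
  haveI : (G H F).E.IsQuasicoherent := (dd H F).isQuasicoherent_glue (fam_mem H F)
  haveI := fun k => (dd H F).isIso_cmp (fam_mem H F) k
  refine ⟨isFlatOver_of_family (fun k => π H (mem F k)) (pullback.snd f U.hom) (flat_π H F) (surj_π H F) _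
    fun k => ?_, isFP_of_family _ (fam_mem H F) _ fun k => ?_⟩
  · refine H52.Ass.FlatTensorProd.isFlatOver_of_iso (asIso ((dd H F).cmp (fam_mem H F) k)).symm ?_
    rw [π_snd, q', Category.assoc]
    haveI : Flat (mem F k).obj.hom.left := F.flat k
    exact H52.FDesc.BaseChangeFlat.isFlatOver_comp _ _ _ (H.obj (mem F k)).property.1
  · exact (SheafOfModules.isFinitePresentation (A H (mem F k)).XT.ringCatSheaf).prop_of_iso
      (asIso ((dd H F).cmp (fam_mem H F) k)).symm (H.obj (mem F k)).property.2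

theorem map_ιm {c : Mem R} {k l : U.left} (m : c ⟶ mem F k) (m' : c ⟶ mem F l) :
    (H.map m).hom ≫ ιm H F k = (H.map m').hom ≫ ιm H F l := by
  have hb : ∀ {j : U.left} (n : c ⟶ mem F j), ((H.map n).hom ≫ ιm H F j).base = eqToHom (hA H c) ≫ c.obj.hom := by
    intro j n
    show (H.map n).hom.base ≫ eqToHom (hA H (mem F j)) ≫ (mem F j).obj.hom = _
    rw [map_base, Category.assoc, Category.assoc, eqToHom_trans_assoc, eqToHom_refl, Category.id_comp, Over.w n.hom]
  refine hom_eq_of_thM ((hb m).trans (hb m').symm) ?_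
  let a := (H.map m).hom.top
  let b := (H.map m').hom.top
  have ha : a ≫ π H (mem F k) = π H c := top_π H m
  have hb' : b ≫ π H (mem F l) = π H c := top_π H m'
  have hR : InR R (π H c) := inR_of H a ha
  let n : ptObj (π H c) hR ⟶ c := toA H hR (𝟙 _) (Category.id_comp _)
  have hθ : ∀ {j : U.left} (mj : c ⟶ mem F j) (hj : (H.map mj).hom.top ≫ π H (mem F j) = π H c),
      θ H hR (H.map mj).hom.top hj = thM (H.map mj).hom (𝟙 _) (H.map mj).hom.top (Category.id_comp _) ≫
        thM (H.map n).hom (sec H (π H c) hR) (𝟙 _) (sec_top H hR (𝟙 _) (Category.id_comp _)) := by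
    intro j mj hj
    have e : H.map (toA H hR (H.map mj).hom.top hj) = H.map n ≫ H.map mj := by
      rw [← H.toFunctor.map_comp]
      refine congrArg H.map (mem_hom_ext ?_)
      show (H.map mj).hom.top ≫ q' H (mem F j) = (𝟙 _ ≫ q' H c) ≫ mj.hom.left.left
      rw [Category.id_comp, top_q']
    rw [θ, thM_congr (congrArg InducedCategory.Hom.hom e)]
    exact thM_comp (H.map n).hom (H.map mj).hom (sec H (π H c) hR) (𝟙 _) (H.map mj).hom.top
      (sec_top H hR (𝟙 _) (Category.id_comp _)) (Category.id_comp _) _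
  have hg := (dd H F).hom_cmp (fam_mem H F) (π H c) a b ha hb'
  have hc : glueMap H F a b (ha.trans hb'.symm) =
      thM (H.map m).hom (𝟙 _) a (Category.id_comp _) ≫ inv (thM (H.map m').hom (𝟙 _) b (Category.id_comp _)) :=
    (glueMap_eq H F a b _ hR ha hb').trans (comp_inv_of_factor (hθ m ha) (hθ m' hb'))
  have hιc : ∀ {j : U.left} (v : (A H c).XT ⟶ (A H (mem F j)).XT) (hv : v ≫ π H (mem F j) = π H c),
      thM (ιm H F j) v (π H c) hv =
        (tr v hv (G H F).E).inv ≫ (Scheme.Modules.pullback v).map ((dd H F).cmp (fam_mem H F) j) := fun _ _ => rfl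
  refine (thM_comp (H.map m).hom (ιm H F k) (𝟙 _) a _ (Category.id_comp _)
    (show a ≫ (ιm H F k).top = ((H.map m).hom ≫ ιm H F k).top from rfl) _).trans ?_
  refine Eq.trans ?_ (thM_comp (H.map m').hom (ιm H F l) (𝟙 _) b _ (Category.id_comp _)
    ((show b ≫ (ιm H F l).top = π H c from hb').trans (show π H c = ((H.map m).hom ≫ ιm H F k).top from ha.symm)) _).symm
  have key : ∀ (w : (A H c).XT ⟶ (G H F).XT) (e : π H c = w),
      thM (ιm H F k) a w (ha.trans e) ≫ thM (H.map m).hom (𝟙 _) a (Category.id_comp _) =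
        thM (ιm H F l) b w (hb'.trans e) ≫ thM (H.map m').hom (𝟙 _) b (Category.id_comp _) := by
    rintro w rfl
    exact comp_eq_of_glue hc ((congrArg (· ≫ glueMap H F a b (ha.trans hb'.symm)) (hιc a ha)).trans
      ((inv_comp_comp (tr a ha (G H F).E) (tr b hb' (G H F).E) hg).trans (hιc b hb').symm))
  exact key _ ha.symm

section Extend

variable (a : Mem R)

/-- The common refinement of a member and a chosen member. -/
noncomputable def cobj (k : U.left) : Mem R :=
  ⟨Over.mk ((Over.homMk (pullback.fst a.obj.hom.left (F.g k)) rfl :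
      Over.mk (pullback.fst a.obj.hom.left (F.g k) ≫ a.obj.left.hom) ⟶ a.obj.left) ≫ a.obj.hom),
    R.downward_closed a.property _⟩

/-- The projection to the member. -/
noncomputable def m₁ (k : U.left) : cobj F a k ⟶ a :=
  ObjectProperty.homMk (Over.homMk (Over.homMk (pullback.fst a.obj.hom.left (F.g k)) rfl) rfl)

/-- The projection to the chosen member. -/
noncomputable def m₂ (k : U.left) : cobj F a k ⟶ mem F k :=
  ObjectProperty.homMk (Over.homMk (Over.homMk (pullback.snd a.obj.hom.left (F.g k)) (by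
      show pullback.snd _ _ ≫ F.g k ≫ U.hom = pullback.fst _ _ ≫ a.obj.left.hom
      rw [← pullback.condition_assoc, homw])) (Over.OverMorphism.ext pullback.condition.symm))

theorem cover_mem : Sieve.ofArrows (fun k => (A H (cobj F a k)).XT) (fun k => (H.map (m₁ F a k)).hom.top) ∈
    Scheme.fpqcTopology (A H a).XT := by
  refine top_mem (fun k => (H.map (m₁ F a k)).hom) (fun k => ?_) (fun k => ?_) fun t => ?_
  · haveI := F.flat k
    rw [map_base, Over.comp_left, Over.comp_left]
    haveI : Flat (m₁ F a k).hom.left.left := inferInstanceAs (Flat (pullback.fst a.obj.hom.left (F.g k)))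
    infer_instance
  · haveI := F.lfp k
    rw [map_base, Over.comp_left, Over.comp_left]
    haveI : LocallyOfFinitePresentation (m₁ F a k).hom.left.left :=
      inferInstanceAs (LocallyOfFinitePresentation (pullback.fst a.obj.hom.left (F.g k)))
    infer_instance
  · obtain ⟨k, v, hv⟩ := F.surj (a.obj.hom.left ((eqToHom (hA H a)).left t))
    obtain ⟨w, hw, -⟩ := Scheme.Pullback.exists_preimage_pullback (f := a.obj.hom.left) (g := F.g k) _ v hv.symm
    refine ⟨k, (eqToHom (hA H (cobj F a k)).symm).left w, ?_⟩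
    rw [map_base, Over.comp_left, Over.comp_left, Scheme.Hom.comp_apply, Scheme.Hom.comp_apply,
      left_eqToHom_apply]
    show (eqToHom (hA H a).symm).left (pullback.fst a.obj.hom.left (F.g k) w) = t
    rw [hw, left_eqToHom_apply']

theorem exists_ι : ∃ χ : A H a ⟶ G H F, χ.base = eqToHom (hA H a) ≫ a.obj.hom ∧
    ∀ k, (H.map (m₁ F a k)).hom ≫ χ = (H.map (m₂ F a k)).hom ≫ ιm H F k := by
  haveI : (A H a).E.IsQuasicoherent := isQuasicoherent_obj (H.obj a)
  haveI : (G H F).E.IsQuasicoherent := (dd H F).isQuasicoherent_glue (fam_mem H F)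
  refine exists_hom_of_local _ (fun k => (H.map (m₁ F a k)).hom) (fun k => (H.map (m₂ F a k)).hom ≫ ιm H F k)
    (fun k => ?_) (cover_mem H F a) fun {T} k l v v' hvv => ?_
  · show (H.map (m₂ F a k)).hom.base ≫ eqToHom (hA H (mem F k)) ≫ (mem F k).obj.hom = _
    simp only [map_base, Category.assoc, eqToHom_trans_assoc, eqToHom_refl, Category.id_comp]
    rw [Over.w (m₂ F a k).hom, Over.w (m₁ F a k).hom]
  · let π₀ := v ≫ π H (cobj F a k)
    have hv' : v' ≫ π H (cobj F a l) = π₀ := by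
      show _ = v ≫ π H (cobj F a k)
      rw [← top_π H (m₁ F a k), ← top_π H (m₁ F a l), reassoc_of% hvv]
    have hR : InR R π₀ := inR_of H v rfl
    refine ⟨A H (ptObj π₀ hR), (H.map (toA H hR v rfl)).hom, (H.map (toA H hR v' hv')).hom, sec H π₀ hR,
      ?_, ?_, sec_top H hR v rfl, sec_top H hR v' hv'⟩
    · suffices h0 : H.map (toA H hR v rfl) ≫ H.map (m₁ F a k) =
          H.map (toA H hR v' hv') ≫ H.map (m₁ F a l) by
        have h1 := congrArg InducedCategory.Hom.hom h0
        exact h1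
      rw [← H.toFunctor.map_comp, ← H.toFunctor.map_comp]
      refine congrArg H.map (mem_hom_ext ?_)
      show (v ≫ q' H _) ≫ (m₁ F a k).hom.left.left = (v' ≫ q' H _) ≫ (m₁ F a l).hom.left.left
      rw [Category.assoc, Category.assoc, ← top_q', ← top_q', reassoc_of% hvv]
    · have h1 := map_ιm H F (toA H hR v rfl ≫ m₂ F a k) (toA H hR v' hv' ≫ m₂ F a l)
      rw [H.toFunctor.map_comp, H.toFunctor.map_comp] at h1
      exact (Category.assoc _ _ _).symm.trans (h1.trans (Category.assoc _ _ _))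

/-- The structure morphism. -/
noncomputable def ιa : A H a ⟶ G H F := (exists_ι H F a).choose

theorem ιa_base : (ιa H F a).base = eqToHom (hA H a) ≫ a.obj.hom := (exists_ι H F a).choose_spec.1

theorem ιa_spec (k : U.left) : (H.map (m₁ F a k)).hom ≫ ιa H F a = (H.map (m₂ F a k)).hom ≫ ιm H F k :=
  (exists_ι H F a).choose_spec.2 k

end Extend

theorem map_ιa_eq {a c : Mem R} (k : U.left) (n : c ⟶ a) (n' : c ⟶ mem F k) :
    (H.map n).hom ≫ ιa H F a = (H.map n').hom ≫ ιm H F k := by
  let u : c ⟶ cobj F a k :=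
    ObjectProperty.homMk (Over.homMk (Over.homMk (pullback.lift n.hom.left.left n'.hom.left.left
      ((congrArg CommaMorphism.left (Over.w n.hom)).trans (congrArg CommaMorphism.left (Over.w n'.hom)).symm)) (by
        show _ ≫ pullback.fst _ _ ≫ a.obj.left.hom = c.obj.left.hom
        exact (Category.assoc _ _ _).symm.trans
          ((congrArg (· ≫ a.obj.left.hom) (pullback.lift_fst _ _ _)).trans (Over.w n.hom.left))))
      (Over.OverMorphism.ext (by
      show _ ≫ pullback.fst a.obj.hom.left (F.g k) ≫ a.obj.hom.left = c.obj.hom.left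
      exact (Category.assoc _ _ _).symm.trans
        ((congrArg (· ≫ a.obj.hom.left) (pullback.lift_fst _ _ _)).trans
          (congrArg CommaMorphism.left (Over.w n.hom))))))
  have e1 : n = u ≫ m₁ F a k := mem_hom_ext (pullback.lift_fst _ _ _).symm
  have e2 : n' = u ≫ m₂ F a k := mem_hom_ext (pullback.lift_snd _ _ _).symm
  rw [e1, e2, H.toFunctor.map_comp, H.toFunctor.map_comp]
  show ((H.map u).hom ≫ _) ≫ _ = ((H.map u).hom ≫ _) ≫ _
  rw [Category.assoc, Category.assoc, ιa_spec]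

theorem map_ιa {a b : Mem R} (m : a ⟶ b) : (H.map m).hom ≫ ιa H F b = ιa H F a := by
  haveI : (A H a).E.IsQuasicoherent := isQuasicoherent_obj (H.obj a)
  refine hom_eq_of_local ?_ (fun k => (H.map (m₁ F a k)).hom) (cover_mem H F a) fun k => ?_
  · show (H.map m).hom.base ≫ (ιa H F b).base = _
    rw [map_base, ιa_base, ιa_base, Category.assoc, Category.assoc, eqToHom_trans_assoc, eqToHom_refl,
      Category.id_comp, Over.w m.hom]
  · rw [ιa_spec, ← map_ιa_eq H F k (m₁ F a k ≫ m) (m₂ F a k), H.toFunctor.map_comp]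
    exact (Category.assoc _ _ _).symm

end Glue

open Glue in
theorem glueObj {U : Over S} {R : Sieve U} (hR : R ∈ QuotSh.J Scheme.fppfPrecoverage S U) :
    GlueObj R (ModSt.Coh f) := by
  intro H
  obtain ⟨F⟩ := exists_fam hR
  exact ⟨{
    pt := ⟨G H F, isCoh_G H F⟩
    proj := rfl
    «ι» := fun a => ObjectProperty.homMk (ιa H F a)
    lifts := fun a => IsHomLift.of_fac' _ _ _ (hA H a) rfl
      (show (ιa H F a).base = eqToHom (hA H a) ≫ a.obj.hom ≫ eqToHom rfl by
        rw [ιa_base, eqToHom_refl]; exact congrArg (eqToHom (hA H a) ≫ ·) (Category.comp_id _).symm)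
    w := fun a b m => InducedCategory.hom_ext (map_ιa H F m) }⟩

/-- Flat finitely presented modules form a stack for the fppf topology. -/
theorem isStack_coh : Stk.IsStack (QuotSh.J Scheme.fppfPrecoverage S) (ModSt.Coh f) :=
  ⟨S17417.result f, fun _ _ hR => (isStackFor_iff (S17417.result f)).2 ⟨sep hR, glueHom hR, glueObj hR⟩⟩

end Groth.Agent.Lib.ModStDesc
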