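import Groth.Agent.Lib.ModStDesc.Th
import Groth.Agent.Lib.QCoh.Pullback
import Mathlib.AlgebraicGeometry.Sites.Fpqc

/-!
Morphisms of modules on base changes glue along fpqc families.
-/

set_option autoImplicit false
set_option backward.isDefEq.respectTransparency false
set_option backward.isDefEq.respectTransparency.types false
set_option linter.style.haveILetI false

universe u

open CategoryTheory CategoryTheory.Limits AlgebraicGeometry Opposite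
open ZarCoh.FlatBC.PullbackSections
open Groth.Agent.Lib.DescAlg.PbSec

namespace Groth.Agent.Lib.ModStDesc

variable {X S : Scheme.{u}} {f : X ⟶ S} {A B C : ModSt.Obj f} {T : Scheme.{u}}

/-- The value of a morphism at a point. -/
noncomputable def thM (φ : A ⟶ B) (a : T ⟶ A.XT) (w : T ⟶ B.XT) (h : a ≫ φ.top = w) :
    (Scheme.Modules.pullback w).obj B.E ⟶ (Scheme.Modules.pullback a).obj A.E :=
  th φ.top φ.c a w h

instance isIso_thM (φ : A ⟶ B) (a : T ⟶ A.XT) (w : T ⟶ B.XT) (h : a ≫ φ.top = w) : IsIso (thM φ a w h) :=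
  isIso_th φ.cart a w h

theorem thM_congr {φ φ' : A ⟶ B} (e : φ = φ') (a : T ⟶ A.XT) (w : T ⟶ B.XT) (h : a ≫ φ.top = w) :
    thM φ a w h = thM φ' a w (e ▸ h) := by
  subst e
  rfl

theorem thM_comp (φ : A ⟶ B) (ψ : B ⟶ C) (a : T ⟶ A.XT) (b : T ⟶ B.XT) (w : T ⟶ C.XT) (hb : a ≫ φ.top = b)
    (hw : b ≫ ψ.top = w) (h : a ≫ (φ ≫ ψ).top = w) :
    thM (φ ≫ ψ) a w h = thM ψ b w hw ≫ thM φ a b hb :=
  th_comp rfl φ.c ψ.c (φ ≫ ψ).c (fun U x => heq_of_eq (ModSt.Obj.comp_c_app φ ψ U x)) a b w hb hw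

theorem thM_conj (φ : A ⟶ B) (a : T ⟶ A.XT) (w : T ⟶ B.XT) (h : a ≫ φ.top = w) {T' : Scheme.{u}} (g : T' ⟶ T)
    (a' : T' ⟶ A.XT) (w' : T' ⟶ B.XT) (ha : g ≫ a = a') (hw : g ≫ w = w') (h' : a' ≫ φ.top = w') :
    thM φ a' w' h' = (tr g hw B.E).inv ≫ (Scheme.Modules.pullback g).map (thM φ a w h) ≫ (tr g ha A.E).hom :=
  th_conj φ.top φ.c a w h g a' w' ha hw

theorem top_eq {a b : A ⟶ B} (hb : a.base = b.base) : a.top = b.top :=
  B.isPullback.hom_ext (a.w_p.trans b.w_p.symm) (by rw [a.w_q, b.w_q, hb])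

theorem hom_eq_of_thM {a b : A ⟶ B} (hb : a.base = b.base)
    (h : thM a (𝟙 A.XT) a.top (Category.id_comp _) =
      thM b (𝟙 A.XT) a.top ((Category.id_comp _).trans (top_eq hb).symm)) : a = b := by
  have ht := top_eq hb
  obtain ⟨ab, at', awp, awq, ac, acart⟩ := a
  obtain ⟨bb, bt', bwp, bwq, bc, bcart⟩ := b
  dsimp only at hb ht
  subst hb ht
  obtain rfl := th_injective (c := ac) (c' := bc) h
  rfl

/-- Morphisms agreeing locally are equal. -/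
theorem hom_eq_of_local [hA : A.E.IsQuasicoherent] {a b : A ⟶ B} (hb : a.base = b.base) {ι : Type u}
    {Z : ι → ModSt.Obj f} (ψ : ∀ k, Z k ⟶ A)
    (hcov : Sieve.ofArrows (fun k => (Z k).XT) (fun k => (ψ k).top) ∈ Scheme.fpqcTopology A.XT)
    (h : ∀ k, ψ k ≫ a = ψ k ≫ b) : a = b := by
  refine hom_eq_of_thM hb ?_
  haveI := _root_.Groth.Agent.Lib.QCoh.Pullback.isQCoh_pullback (𝟙 A.XT) A.E
  refine pullback_map_injective (fun k => (ψ k).top) hcov fun k => ?_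
  have key : ∀ (c : A ⟶ B) (hc : c.top = a.top),
      (Scheme.Modules.pullback (ψ k).top).map (thM c (𝟙 A.XT) a.top ((Category.id_comp _).trans hc)) =
        (tr (ψ k).top rfl B.E).hom ≫ (thM (ψ k ≫ c) (𝟙 _) ((ψ k).top ≫ a.top)
            (by rw [Category.id_comp, ModSt.Obj.comp_top, hc]) ≫ inv (thM (ψ k) (𝟙 _) (ψ k).top (Category.id_comp _))) ≫
          (tr (ψ k).top (Category.comp_id _) A.E).inv := by
    intro c hc
    rw [thM_comp (ψ k) c (𝟙 _) (ψ k).top ((ψ k).top ≫ a.top) (Category.id_comp _) (by rw [hc])]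
    simp only [Category.assoc, IsIso.hom_inv_id_assoc]
    rw [thM_conj c (𝟙 A.XT) a.top ((Category.id_comp _).trans hc) (ψ k).top (ψ k).top ((ψ k).top ≫ a.top)
        (Category.comp_id _) rfl (by rw [hc])]
    simp only [Category.assoc, Iso.hom_inv_id, Category.comp_id, Iso.hom_inv_id_assoc]
  rw [key a rfl, key b (top_eq hb).symm, thM_congr (h k)]

/-- Compatible morphisms out of a covering glue. -/
theorem exists_hom_of_local [hA : A.E.IsQuasicoherent] [hB : B.E.IsQuasicoherent] (b₀ : A.base ⟶ B.base)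
    {ι : Type u} {Z : ι → ModSt.Obj f} (ψ : ∀ k, Z k ⟶ A) (c : ∀ k, Z k ⟶ B)
    (hbase : ∀ k, (c k).base = (ψ k).base ≫ b₀)
    (hcov : Sieve.ofArrows (fun k => (Z k).XT) (fun k => (ψ k).top) ∈ Scheme.fpqcTopology A.XT)
    (hcomp : ∀ {T : Scheme.{u}} (k l : ι) (a : T ⟶ (Z k).XT) (b : T ⟶ (Z l).XT), a ≫ (ψ k).top = b ≫ (ψ l).top →
      ∃ (Z₀ : ModSt.Obj f) (ρ : Z₀ ⟶ Z k) (ρ' : Z₀ ⟶ Z l) (s : T ⟶ Z₀.XT),
        ρ ≫ ψ k = ρ' ≫ ψ l ∧ ρ ≫ c k = ρ' ≫ c l ∧ s ≫ ρ.top = a ∧ s ≫ ρ'.top = b) :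
    ∃ χ : A ⟶ B, χ.base = b₀ ∧ ∀ k, ψ k ≫ χ = c k := by
  let t : A.XT ⟶ B.XT := B.isPullback.lift A.p (A.q ≫ b₀.left)
    (by rw [Category.assoc, Over.w b₀]; exact A.isPullback.w)
  have htp : t ≫ B.p = A.p := B.isPullback.lift_fst _ _ _
  have htq : t ≫ B.q = A.q ≫ b₀.left := B.isPullback.lift_snd _ _ _
  have htop : ∀ k, (ψ k).top ≫ t = (c k).top := fun k => B.isPullback.hom_ext
    (by rw [Category.assoc, htp, (ψ k).w_p, (c k).w_p])
    (by rw [Category.assoc, htq, reassoc_of% (ψ k).w_q, (c k).w_q, hbase, Over.comp_left])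
  let N := (Scheme.Modules.pullback t).obj B.E
  let Ψ : ∀ k, (Scheme.Modules.pullback (ψ k).top).obj N ⟶ (Scheme.Modules.pullback (ψ k).top).obj A.E := fun k =>
    (tr (ψ k).top rfl B.E).hom ≫ thM (c k) (𝟙 _) ((ψ k).top ≫ t) (by rw [Category.id_comp, htop]) ≫
      inv (thM (ψ k) (𝟙 _) (ψ k).top (Category.id_comp _))
  have hΨ : ∀ {T : Scheme.{u}} (q : T ⟶ A.XT) (k : ι) (a : T ⟶ (Z k).XT) (ha : a ≫ (ψ k).top = q),
      conj N A.E a ha (Ψ k) = (tr q rfl B.E).hom ≫ thM (c k) a (q ≫ t) (by rw [← htop, reassoc_of% ha]) ≫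
        inv (thM (ψ k) a q ha) := by
    intro T q k a ha
    rw [← Category.assoc, IsIso.eq_comp_inv, conj,
      thM_conj (ψ k) (𝟙 _) (ψ k).top (Category.id_comp _) a a q (Category.comp_id _) ha ha,
      thM_conj (c k) (𝟙 _) ((ψ k).top ≫ t) (by rw [Category.id_comp, htop]) a a (q ≫ t) (Category.comp_id _)
        (by rw [reassoc_of% ha]) (by rw [← htop, reassoc_of% ha])]
    simp only [Category.assoc, Iso.hom_inv_id_assoc, ← Functor.map_comp_assoc]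
    simp only [Ψ, Category.assoc, IsIso.inv_hom_id, Category.comp_id]
    rw [Functor.map_comp, Category.assoc]
    have e : (tr a ha N).inv ≫ (Scheme.Modules.pullback a).map (tr (ψ k).top rfl B.E).hom =
        (tr q rfl B.E).hom ≫ (tr a ((show a ≫ (ψ k).top ≫ t = q ≫ t by rw [reassoc_of% ha])) B.E).inv := by
      rw [← cancel_epi (tr q (rfl : q ≫ t = q ≫ t) B.E).inv, Iso.inv_hom_id_assoc]
      refine hom_ext (q ≫ t) fun U x => ?_
      have hinv : ∀ {Y W : Scheme.{u}} (g : W ⟶ Y) {u : Y ⟶ B.XT} {v : W ⟶ B.XT} (hg : g ≫ u = v) (O : B.XT.Opens)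
          (e1 : v ⁻¹ᵁ O ≤ g ⁻¹ᵁ (u ⁻¹ᵁ O)) (y : Γ(B.E, O)),
          (tr g hg B.E).inv.app (v ⁻¹ᵁ O) (pbRes v B.E le_rfl y) =
            pbRes g ((Scheme.Modules.pullback u).obj B.E) e1 (pbRes u B.E le_rfl y) := by
        intro Y W g u v hg O e1 y
        have h1 := R_pbRes g hg B.E (le_refl (u ⁻¹ᵁ O)) e1 y
        rw [R_eq] at h1
        rw [← h1]
        have e2 : (tr g hg B.E).hom.app (v ⁻¹ᵁ O) ≫ (tr g hg B.E).inv.app (v ⁻¹ᵁ O) = 𝟙 _ := by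
          rw [← Scheme.Modules.Hom.comp_app, Iso.hom_inv_id]
          rfl
        exact ConcreteCategory.congr_hom e2 _
      have e3 : (q ≫ t) ⁻¹ᵁ U ≤ q ⁻¹ᵁ (t ⁻¹ᵁ U) := le_rfl
      have e4 : (q ≫ t) ⁻¹ᵁ U ≤ a ⁻¹ᵁ (((ψ k).top ≫ t) ⁻¹ᵁ U) := by rw [← ha, Category.assoc]; rfl
      have e5 : (q ≫ t) ⁻¹ᵁ U ≤ a ⁻¹ᵁ ((ψ k).top ⁻¹ᵁ (t ⁻¹ᵁ U)) := by rw [← ha]; rfl
      refine Eq.trans ?_ (hinv a ((show a ≫ (ψ k).top ≫ t = q ≫ t by rw [reassoc_of% ha])) U e4 x).symm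
      show ((Scheme.Modules.pullback a).map (tr (ψ k).top rfl B.E).hom).app _
        ((tr a ha N).inv.app _ ((tr q (rfl : q ≫ t = q ≫ t) B.E).inv.app _ (pbRes (q ≫ t) B.E le_rfl x))) = _
      rw [hinv q rfl U e3 x]
      have h6 := R_pbRes a ha N (le_refl ((ψ k).top ⁻¹ᵁ (t ⁻¹ᵁ U))) (W' := (q ≫ t) ⁻¹ᵁ U) e5 (pbRes t B.E le_rfl x)
      rw [R_eq] at h6
      refine (congrArg (fun z => ((Scheme.Modules.pullback a).map (tr (ψ k).top rfl B.E).hom).app _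
        ((tr a ha N).inv.app _ z)) h6.symm).trans ?_
      have e7 : (tr a ha N).hom.app ((q ≫ t) ⁻¹ᵁ U) ≫ (tr a ha N).inv.app ((q ≫ t) ⁻¹ᵁ U) = 𝟙 _ := by
        rw [← Scheme.Modules.Hom.comp_app, Iso.hom_inv_id]
        rfl
      refine (congrArg (((Scheme.Modules.pullback a).map (tr (ψ k).top rfl B.E).hom).app _)
        (ConcreteCategory.congr_hom e7 _)).trans ?_
      refine (pbRes_natural a (tr (ψ k).top (rfl : (ψ k).top ≫ t = (ψ k).top ≫ t) B.E).hom e5 _).trans ?_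
      congr 1
      have h8 := R_pbRes (ψ k).top (rfl : (ψ k).top ≫ t = (ψ k).top ≫ t) B.E (le_refl (t ⁻¹ᵁ U))
        (le_refl ((ψ k).top ⁻¹ᵁ (t ⁻¹ᵁ U))) x
      rw [R_eq] at h8
      exact h8
    rw [reassoc_of% e]
  have hcompat : ∀ ⦃T : Scheme.{u}⦄ (q : T ⟶ A.XT) ⦃k l : ι⦄ (a : T ⟶ (Z k).XT) (b : T ⟶ (Z l).XT)
      (ha : a ≫ (ψ k).top = q) (hb : b ≫ (ψ l).top = q), conj N A.E a ha (Ψ k) = conj N A.E b hb (Ψ l) := by
    intro T q k l a b ha hb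
    rw [hΨ, hΨ]
    congr 1
    obtain ⟨Z₀, ρ, ρ', s, e1, e2, hs, hs'⟩ := hcomp k l a b (ha.trans hb.symm)
    have h1 : thM (ρ ≫ c k) s (q ≫ t) (by rw [ModSt.Obj.comp_top, reassoc_of% hs, ← htop, reassoc_of% ha]) =
        thM (c k) a (q ≫ t) (by rw [← htop, reassoc_of% ha]) ≫ thM ρ s a hs := thM_comp ρ (c k) s a (q ≫ t) hs _ _
    have h2 : thM (ρ' ≫ c l) s (q ≫ t) (by rw [ModSt.Obj.comp_top, reassoc_of% hs', ← htop, reassoc_of% hb]) =
        thM (c l) b (q ≫ t) (by rw [← htop, reassoc_of% hb]) ≫ thM ρ' s b hs' := thM_comp ρ' (c l) s b (q ≫ t) hs' _ _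
    have h3 : thM (ρ ≫ ψ k) s q (by rw [ModSt.Obj.comp_top, reassoc_of% hs, ha]) =
        thM (ψ k) a q ha ≫ thM ρ s a hs := thM_comp ρ (ψ k) s a q hs ha _
    have h4 : thM (ρ' ≫ ψ l) s q (by rw [ModSt.Obj.comp_top, reassoc_of% hs', hb]) =
        thM (ψ l) b q hb ≫ thM ρ' s b hs' := thM_comp ρ' (ψ l) s b q hs' hb _
    rw [IsIso.eq_comp_inv, Category.assoc]
    refine (cancel_mono (thM ρ' s b hs')).1 ?_
    simp only [Category.assoc]
    rw [← h2, ← h4, thM_congr e1.symm, h3, IsIso.inv_hom_id_assoc, ← h1, thM_congr e2]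
  haveI : N.IsQuasicoherent := _root_.Groth.Agent.Lib.QCoh.Pullback.isQCoh_pullback t B.E
  obtain ⟨φ, hφ⟩ := exists_hom (fun k => (ψ k).top) hcov Ψ hcompat
  have hΨiso : ∀ k, IsIso (Ψ k) := fun k => IsIso.comp_isIso' inferInstance (IsIso.comp_isIso' inferInstance inferInstance)
  have hcompat' : ∀ ⦃T : Scheme.{u}⦄ (q : T ⟶ A.XT) ⦃k l : ι⦄ (a : T ⟶ (Z k).XT) (b : T ⟶ (Z l).XT)
      (ha : a ≫ (ψ k).top = q) (hb : b ≫ (ψ l).top = q),
      conj A.E N a ha (inv (Ψ k)) = conj A.E N b hb (inv (Ψ l)) := by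
    intro T q k l a b ha hb
    have e : ∀ {m : ι} (d : T ⟶ (Z m).XT) (hd : d ≫ (ψ m).top = q),
        conj N A.E d hd (Ψ m) ≫ conj A.E N d hd (inv (Ψ m)) = 𝟙 _ := by
      intro m d hd
      simp [conj, ← Functor.map_comp_assoc]
    have e' : conj A.E N b hb (inv (Ψ l)) ≫ conj N A.E b hb (Ψ l) = 𝟙 _ := by
      simp [conj, ← Functor.map_comp_assoc]
    calc conj A.E N a ha (inv (Ψ k))
        = (conj A.E N b hb (inv (Ψ l)) ≫ conj N A.E b hb (Ψ l)) ≫ conj A.E N a ha (inv (Ψ k)) := by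
          rw [e', Category.id_comp]
      _ = conj A.E N b hb (inv (Ψ l)) := by
          rw [Category.assoc, ← hcompat q a b ha hb, e, Category.comp_id]
  obtain ⟨φ', hφ'⟩ := exists_hom (fun k => (ψ k).top) hcov (fun k => inv (Ψ k)) hcompat'
  haveI : IsIso φ := ⟨φ', pullback_map_injective (fun k => (ψ k).top) hcov fun k => by
      rw [Functor.map_comp, hφ, hφ', IsIso.hom_inv_id, CategoryTheory.Functor.map_id],
    pullback_map_injective (fun k => (ψ k).top) hcov fun k => by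
      rw [Functor.map_comp, hφ, hφ', IsIso.inv_hom_id, CategoryTheory.Functor.map_id]⟩
  let χ : A ⟶ B :=
    { base := b₀
      top := t
      w_p := htp
      w_q := htq
      c := (Scheme.Modules.pullbackPushforwardAdjunction t).homEquiv B.E A.E φ
      cart := isCart_of_isIso φ }
  refine ⟨χ, rfl, fun k => hom_eq_of_thM (hbase k).symm ?_⟩
  have hd : (ψ k).top ≫ χ.top = (ψ k ≫ χ).top := rfl
  rw [thM_comp (ψ k) χ (𝟙 _) (ψ k).top _ (Category.id_comp _) hd]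
  have h5 : thM χ (ψ k).top ((ψ k).top ≫ t) rfl =
      (tr (ψ k).top rfl B.E).inv ≫ (Scheme.Modules.pullback (ψ k).top).map φ := by
    show (tr (ψ k).top rfl B.E).inv ≫ (Scheme.Modules.pullback (ψ k).top).map
      (((Scheme.Modules.pullbackPushforwardAdjunction t).homEquiv B.E A.E).symm χ.c) = _
    rw [Equiv.symm_apply_apply]
  show thM χ (ψ k).top ((ψ k).top ≫ t) rfl ≫ _ = _
  rw [h5, hφ]
  simp only [Ψ, Category.assoc, Iso.inv_hom_id_assoc, IsIso.inv_hom_id, Category.comp_id]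
  rfl

end Groth.Agent.Lib.ModStDesc
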