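import Groth.Prelude.Def_ModSt
import Groth.Agent.Lib.DescAlg.PbSecHom
import Groth.Agent.Lib.CohDelta.BC.Transpose

/-!
Comparison maps of modules along morphisms of schemes, evaluated at points.
-/

set_option autoImplicit false
set_option backward.isDefEq.respectTransparency false
set_option backward.isDefEq.respectTransparency.types false
set_option linter.style.haveILetI false

universe u

open CategoryTheory CategoryTheory.Limits AlgebraicGeometry Opposite
open ZarCoh.FlatBC.PullbackSections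
open Groth.Agent.Lib.DescAlg.PbSec

namespace Groth.Agent.Lib.ModStDesc

variable {A B T : Scheme.{u}}

/-- Transposes of cartesian comparison maps are isomorphisms. -/
theorem isIso_transpose {t : A ⟶ B} {N : B.Modules} {M : A.Modules}
    {c : N ⟶ (Scheme.Modules.pushforward t).obj M} (hc : ModSt.IsCart t c) :
    IsIso (((Scheme.Modules.pullbackPushforwardAdjunction t).homEquiv N M).symm c) := by
  let adj := Scheme.Modules.pullbackPushforwardAdjunction t
  let P := (Scheme.Modules.pullback t).obj N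
  let θ : P ⟶ M := (adj.homEquiv N M).symm c
  have key : ∀ {M' : A.Modules} (v : M ⟶ M'),
      adj.homEquiv N M' (θ ≫ v) = c ≫ (Scheme.Modules.pushforward t).map v := fun v => by
    rw [Adjunction.homEquiv_naturality_right, Equiv.apply_symm_apply]
  obtain ⟨v, hv⟩ := (hc P).2 (adj.homEquiv N P (𝟙 P))
  have h1 : θ ≫ v = 𝟙 P := (adj.homEquiv N P).injective ((key v).trans hv)
  refine ⟨v, h1, (hc M).1 ?_⟩
  show c ≫ (Scheme.Modules.pushforward t).map (v ≫ θ) = c ≫ (Scheme.Modules.pushforward t).map (𝟙 M)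
  rw [← key, ← key, reassoc_of% h1, Category.comp_id]

/-- Comparison maps with invertible transpose are cartesian. -/
theorem isCart_of_isIso {t : A ⟶ B} {N : B.Modules} {M : A.Modules}
    (θ : (Scheme.Modules.pullback t).obj N ⟶ M) [IsIso θ] :
    ModSt.IsCart t ((Scheme.Modules.pullbackPushforwardAdjunction t).homEquiv N M θ) := by
  intro M'
  have heq : (fun v : M ⟶ M' => (Scheme.Modules.pullbackPushforwardAdjunction t).homEquiv N M θ ≫
      (Scheme.Modules.pushforward t).map v) =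
      (Scheme.Modules.pullbackPushforwardAdjunction t).homEquiv N M' ∘ (fun v => θ ≫ v) := by
    funext v
    exact (Adjunction.homEquiv_naturality_right _ _ _).symm
  rw [heq]
  exact (Equiv.bijective _).comp ⟨fun v w h => (cancel_epi θ).1 h, fun w => ⟨inv θ ≫ w, by simp⟩⟩

/-- The value at a point of a comparison map. -/
noncomputable def th (t : A ⟶ B) {N : B.Modules} {M : A.Modules} (c : N ⟶ (Scheme.Modules.pushforward t).obj M)
    (a : T ⟶ A) (w : T ⟶ B) (h : a ≫ t = w) :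
    (Scheme.Modules.pullback w).obj N ⟶ (Scheme.Modules.pullback a).obj M :=
  (tr a h N).inv ≫ (Scheme.Modules.pullback a).map
    (((Scheme.Modules.pullbackPushforwardAdjunction t).homEquiv N M).symm c)

theorem isIso_th {t : A ⟶ B} {N : B.Modules} {M : A.Modules} {c : N ⟶ (Scheme.Modules.pushforward t).obj M}
    (hc : ModSt.IsCart t c) (a : T ⟶ A) (w : T ⟶ B) (h : a ≫ t = w) : IsIso (th t c a w h) := by
  have := isIso_transpose hc
  exact IsIso.comp_isIso' inferInstance inferInstance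

theorem th_pbRes (t : A ⟶ B) {N : B.Modules} {M : A.Modules} (c : N ⟶ (Scheme.Modules.pushforward t).obj M)
    (a : T ⟶ A) (w : T ⟶ B) (h : a ≫ t = w) {U : B.Opens} {W : T.Opens} (e : W ≤ w ⁻¹ᵁ U) (x : Γ(N, U)) :
    (th t c a w h).app W (pbRes w N e x) =
      pbRes a M (U := t ⁻¹ᵁ U) (by subst h; exact e) (c.app U x) := by
  have e' : W ≤ a ⁻¹ᵁ (t ⁻¹ᵁ U) := by subst h; exact e
  have h1 := R_pbRes a h N (le_refl (t ⁻¹ᵁ U)) e' x
  rw [R_eq] at h1
  show ((Scheme.Modules.pullback a).map _).app W ((tr a h N).inv.app W (pbRes w N e x)) = _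
  rw [← h1]
  have e1 : (tr a h N).hom.app W ≫ (tr a h N).inv.app W = 𝟙 _ := by
    rw [← Scheme.Modules.Hom.comp_app, Iso.hom_inv_id]
    rfl
  refine (congrArg (((Scheme.Modules.pullback a).map _).app W) (ConcreteCategory.congr_hom e1 _)).trans ?_
  refine (pbRes_natural a _ e' _).trans ?_
  congr 1
  rw [Groth.Agent.Lib.CohDelta.BC.Transpose.transpose_pbRes]
  show M.presheaf.map (𝟙 _) _ = _
  rw [CategoryTheory.Functor.map_id]
  rfl

/-- Composites. -/
theorem th_comp {C : Scheme.{u}} {t₁ : A ⟶ B} {t₂ : B ⟶ C} {t : A ⟶ C} (ht : t₁ ≫ t₂ = t)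
    {P : C.Modules} {N : B.Modules} {M : A.Modules} (c₁ : N ⟶ (Scheme.Modules.pushforward t₁).obj M)
    (c₂ : P ⟶ (Scheme.Modules.pushforward t₂).obj N) (c : P ⟶ (Scheme.Modules.pushforward t).obj M)
    (hc : ∀ (U : C.Opens) (x : Γ(P, U)), HEq (c.app U x) (c₁.app (t₂ ⁻¹ᵁ U) (c₂.app U x)))
    (a : T ⟶ A) (b : T ⟶ B) (w : T ⟶ C) (hb : a ≫ t₁ = b) (hw : b ≫ t₂ = w) :
    th t c a w (by rw [← ht, reassoc_of% hb, hw]) = th t₂ c₂ b w hw ≫ th t₁ c₁ a b hb := by
  subst ht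
  refine hom_ext w fun U x => ?_
  refine (th_pbRes _ c a w (by rw [reassoc_of% hb, hw]) le_rfl x).trans ?_
  refine Eq.trans ?_ (congrArg ((th t₁ c₁ a b hb).app (w ⁻¹ᵁ U)) (th_pbRes t₂ c₂ b w hw le_rfl x)).symm
  rw [th_pbRes t₁ c₁ a b hb]
  congr 1
  exact eq_of_heq (hc U x)

/-- Restriction along a morphism. -/
theorem th_conj (t : A ⟶ B) {N : B.Modules} {M : A.Modules} (c : N ⟶ (Scheme.Modules.pushforward t).obj M)
    (a : T ⟶ A) (w : T ⟶ B) (h : a ≫ t = w) {T' : Scheme.{u}} (g : T' ⟶ T) (a' : T' ⟶ A) (w' : T' ⟶ B)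
    (ha : g ≫ a = a') (hw : g ≫ w = w') :
    th t c a' w' (by rw [← ha, ← hw, Category.assoc, h]) =
      (tr g hw N).inv ≫ (Scheme.Modules.pullback g).map (th t c a w h) ≫ (tr g ha M).hom := by
  rw [← Iso.hom_inv_id_assoc (tr g hw N) ((Scheme.Modules.pullback g).map _ ≫ _), Iso.inv_hom_id_assoc]
  refine hom_ext w' fun U x => ?_
  refine (th_pbRes t c a' w' _ le_rfl x).trans ?_
  have e : w' ⁻¹ᵁ U ≤ g ⁻¹ᵁ (w ⁻¹ᵁ U) := by rw [← hw]; rfl
  have h1 := R_pbRes g hw N (le_refl (w ⁻¹ᵁ U)) e x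
  rw [R_eq] at h1
  show _ = (tr g ha M).hom.app _ (((Scheme.Modules.pullback g).map _).app _ ((tr g hw N).inv.app _ (pbRes w' N le_rfl x)))
  have e1 : (tr g hw N).hom.app (w' ⁻¹ᵁ U) ≫ (tr g hw N).inv.app (w' ⁻¹ᵁ U) = 𝟙 _ := by
    rw [← Scheme.Modules.Hom.comp_app, Iso.hom_inv_id]
    rfl
  rw [← h1]
  refine Eq.trans ?_ (congrArg (fun z => (tr g ha M).hom.app _ (((Scheme.Modules.pullback g).map (th t c a w h)).app _ z))
    (ConcreteCategory.congr_hom e1 _)).symm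
  refine Eq.trans ?_ (congrArg ((tr g ha M).hom.app _) (pbRes_natural g _ e _)).symm
  rw [th_pbRes, ← R_eq, R_pbRes]

/-- The comparison map is determined by its value at the identity. -/
theorem th_injective {t : A ⟶ B} {N : B.Modules} {M : A.Modules} {c c' : N ⟶ (Scheme.Modules.pushforward t).obj M}
    (h : th t c (𝟙 A) t (Category.id_comp t) = th t c' (𝟙 A) t (Category.id_comp t)) : c = c' := by
  apply ((Scheme.Modules.pullbackPushforwardAdjunction t).homEquiv N M).symm.injective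
  have h' := (cancel_epi _).1 h
  have n : ∀ {P Q : A.Modules} (φ : P ⟶ Q), (Scheme.Modules.pullback (𝟙 A)).map φ ≫ (Scheme.Modules.pullbackId A).hom.app Q =
      (Scheme.Modules.pullbackId A).hom.app P ≫ φ := fun φ => (Scheme.Modules.pullbackId A).hom.naturality φ
  refine (cancel_epi ((Scheme.Modules.pullbackId A).hom.app _)).1 ?_
  rw [← n, ← n, h']

/-- Transposing a part of the morphism. -/
theorem th_transpose {C : Scheme.{u}} (t₁ : A ⟶ B) (t₂ : B ⟶ C) {P : C.Modules} {M : A.Modules}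
    {t : A ⟶ C} (ht : t₁ ≫ t₂ = t) (c : P ⟶ (Scheme.Modules.pushforward t).obj M)
    (c' : (Scheme.Modules.pullback t₂).obj P ⟶ (Scheme.Modules.pushforward t₁).obj M)
    (hc : ∀ (U : C.Opens) (x : Γ(P, U)), HEq (c.app U x) (c'.app (t₂ ⁻¹ᵁ U) (pbRes t₂ P le_rfl x)))
    (a : T ⟶ A) (b : T ⟶ B) (hb : a ≫ t₁ = b) :
    th t₁ c' a b hb =
      (tr b (rfl : b ≫ t₂ = b ≫ t₂) P).hom ≫ th t c a (b ≫ t₂) (by rw [← ht, reassoc_of% hb]) := by
  subst ht
  rw [← cancel_epi (tr b (rfl : b ≫ t₂ = b ≫ t₂) P).inv, Iso.inv_hom_id_assoc]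
  refine hom_ext (b ≫ t₂) fun U x => ?_
  refine Eq.trans ?_ (th_pbRes _ c a (b ≫ t₂) (by rw [reassoc_of% hb]) le_rfl x).symm
  have h1 := R_pbRes b (rfl : b ≫ t₂ = b ≫ t₂) P (le_refl (t₂ ⁻¹ᵁ U)) (le_refl (b ⁻¹ᵁ (t₂ ⁻¹ᵁ U))) x
  rw [R_eq] at h1
  have e1 : (tr b (rfl : b ≫ t₂ = b ≫ t₂) P).hom.app ((b ≫ t₂) ⁻¹ᵁ U) ≫
      (tr b (rfl : b ≫ t₂ = b ≫ t₂) P).inv.app ((b ≫ t₂) ⁻¹ᵁ U) = 𝟙 _ := by
    rw [← Scheme.Modules.Hom.comp_app, Iso.hom_inv_id]
    rfl
  show (th t₁ c' a b hb).app _ ((tr b rfl P).inv.app _ (pbRes (b ≫ t₂) P le_rfl x)) = _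
  refine (congrArg (fun z => (th t₁ c' a b hb).app _ ((tr b rfl P).inv.app _ z)) h1.symm).trans ?_
  refine (congrArg ((th t₁ c' a b hb).app _) (ConcreteCategory.congr_hom e1 _)).trans ?_
  refine (th_pbRes t₁ c' a b hb (U := t₂ ⁻¹ᵁ U) (W := (b ≫ t₂) ⁻¹ᵁ U) le_rfl _).trans ?_
  congr 1
  exact (eq_of_heq (hc U x)).symm

end Groth.Agent.Lib.ModStDesc
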